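import Groth.Agent.Lib.FreeOrbH28.Dim
import Groth.Agent.Lib.OrbitH28.Basic
import Groth.Agent.Lib.FlatH4.GenFreeMain
import Mathlib.RingTheory.RingHom.Flat
import Mathlib.RingTheory.TensorProduct.IncludeLeftSubRight
import Mathlib.RingTheory.Flat.FaithfullyFlat.Algebra

/-!
# Orbit maps are flat onto the orbit algebra
-/

open TensorProduct HopfRep WithConv Groth.Agent.Comodule

universe u

namespace Groth.Agent.OrbitFlatH28

variable {k : Type u} [Field k] [IsAlgClosed k] [CharZero k] {A : Type u} [CommRing A] [HopfAlgebra k A]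
  [Algebra.FiniteType k A] {R : Type u} [CommRing R] [Algebra k R] [Comod k A R] [GLin.IsCoactAlg k A R]

/-- Translation on the right. -/
noncomputable def rtr (g : WithConv (A →ₐ[k] k)) : A →ₐ[k] A :=
  (Algebra.TensorProduct.rid k k A).toAlgHom.comp
    ((Algebra.TensorProduct.map (AlgHom.id k A) g.ofConv).comp (Bialgebra.comulAlgHom k A))

lemma apply_rtr (g h : WithConv (A →ₐ[k] k)) (y : A) : h.ofConv (rtr g y) = (h * g).ofConv y := by
  rw [AlgHom.convMul_apply]
  simp only [rtr, AlgHom.comp_apply, Bialgebra.comulAlgHom_apply]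
  generalize CoalgebraStruct.comul (R := k) y = z
  induction z with
  | zero => simp
  | tmul r a => simp [mul_comm]
  | add p q hp hq => simp only [map_add, hp, hq]

lemma rtr_rtr (g h : WithConv (A →ₐ[k] k)) (hgh : g * h = 1) (y : A) : rtr g (rtr h y) = y :=
  FreeOrbH28.ext_points (k := k) fun p => by
    show (toConv p).ofConv (rtr g (rtr h y)) = p y
    rw [apply_rtr, apply_rtr, mul_assoc, hgh, mul_one]

lemma rtr_orbit (g : WithConv (A →ₐ[k] k)) (x : R →ₐ[k] k) (f : R) :
    rtr g (GLin.orbitHom k A x f) = GLin.orbitHom k A x (Comod.act k A R g.ofConv f) :=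
  FreeOrbH28.ext_points (k := k) fun p => by
    show (toConv p).ofConv (rtr g _) = (toConv p).ofConv (GLin.orbitHom k A x _)
    rw [apply_rtr, ← OrbitH28.mv_apply, ← OrbitH28.mv_apply, OrbitH28.act_apply, ← OrbitH28.mv_apply,
      OrbitH28.mv_mv]

variable [Algebra.FiniteType k R] [IsDomain A]

/-- The orbit algebra. -/
noncomputable abbrev orb (A : Type u) [CommRing A] [HopfAlgebra k A] [Comod k A R] [GLin.IsCoactAlg k A R]
    (x : R →ₐ[k] k) : Subalgebra k A := (GLin.orbitHom k A x).range

set_option synthInstance.maxHeartbeats 200000 in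
theorem flat_orb (x : R →ₐ[k] k) : Module.Flat (orb A x) A := by
  classical
  haveI : Algebra.FiniteType (orb A x) A :=
    Algebra.FiniteType.of_restrictScalars_finiteType k (orb A x) A
  obtain ⟨f, hf, hfree⟩ := FlatH4.exists_free_and_finitePresentation (R := orb A x) (S := A)
  have hflat : ((algebraMap A (Localization.Away (f : A))).comp (algebraMap (orb A x) A)).Flat := by
    let Rf := Localization.Away f
    haveI hfr : Module.Free Rf (Rf ⊗[orb A x] A) :=
      (hfree Rf (IsLocalization.Away.algebraMap_isUnit f)).1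
    haveI : Module.Flat (orb A x) Rf := IsLocalization.flat Rf (Submonoid.powers f)
    haveI : Module.Flat Rf (Rf ⊗[orb A x] A) := Module.Flat.of_free
    haveI : Module.Flat (orb A x) (Rf ⊗[orb A x] A) := Module.Flat.trans (orb A x) Rf _
    haveI hl : IsLocalizedModule (Submonoid.powers f)
        ((TensorProduct.mk (orb A x) Rf A 1)) := by
      exact (isLocalizedModule_iff_isBaseChange (Submonoid.powers f) Rf _).2 (TensorProduct.isBaseChange (orb A x) A Rf)
    haveI : IsLocalization (Algebra.algebraMapSubmonoid A (Submonoid.powers f)) (Localization.Away (f : A)) := by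
      rw [Algebra.algebraMapSubmonoid_powers]
      exact Localization.isLocalization
    haveI hl' : IsLocalizedModule (Submonoid.powers f)
        (IsScalarTower.toAlgHom (orb A x) A (Localization.Away (f : A))).toLinearMap :=
      isLocalizedModule_iff_isLocalization.2 inferInstance
    haveI : Module.Flat (orb A x) (Localization.Away (f : A)) := by
      refine Module.Flat.of_linearEquiv ((IsLocalizedModule.linearEquiv (Submonoid.powers f)
        (IsScalarTower.toAlgHom (orb A x) A (Localization.Away (f : A))).toLinearMap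
        (TensorProduct.mk (orb A x) Rf A 1)))
    exact (RingHom.flat_algebraMap_iff).2 this
  let S : Set A := Set.range fun g : WithConv (A →ₐ[k] k) => rtr g (f : A)
  have hS : Ideal.span S = ⊤ := by
    by_contra h
    obtain ⟨M, hM, hle⟩ := Ideal.exists_le_maximal _ h
    haveI := hM
    obtain ⟨p, hp⟩ := FreeOrbH28.exists_point_of_isMaximal (k := k) M
    obtain ⟨q, hq⟩ : ∃ q : A →ₐ[k] k, q (f : A) ≠ 0 := by
      by_contra hall
      push Not at hall
      exact hf (Subtype.ext (FreeOrbH28.ext_points (k := k) fun q => by rw [hall q]; exact (map_zero q).symm))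
    have hmem : rtr ((toConv p)⁻¹ * toConv q) (f : A) ∈ M := hle (Ideal.subset_span ⟨_, rfl⟩)
    rw [← hp, RingHom.mem_ker] at hmem
    have h' : (toConv p).ofConv (rtr ((toConv p)⁻¹ * toConv q) (f : A)) = 0 := hmem
    rw [apply_rtr, mul_inv_cancel_left] at h'
    exact hq h'
  rw [← RingHom.flat_algebraMap_iff]
  refine RingHom.Flat.ofLocalizationSpanTarget _ S hS ?_
  rintro ⟨_, g, rfl⟩
  let e : A ≃+* A := RingEquiv.ofRingHom (rtr g).toRingHom (rtr g⁻¹).toRingHom
    (RingHom.ext fun y => rtr_rtr g g⁻¹ (mul_inv_cancel g) y)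
    (RingHom.ext fun y => rtr_rtr g⁻¹ g (inv_mul_cancel g) y)
  have hB : ∀ (g : WithConv (A →ₐ[k] k)) (b : orb A x), rtr g (b : A) ∈ orb A x := by
    rintro g ⟨_, r, rfl⟩
    exact ⟨_, (rtr_orbit g x r).symm⟩
  let eB : orb A x →+* orb A x := ((rtr g⁻¹).toRingHom.comp (algebraMap (orb A x) A)).codRestrict
    (orb A x) (fun b => hB g⁻¹ b)
  have heB : Function.Bijective eB := by
    refine ⟨fun b b' h => Subtype.ext (e.symm.injective (congrArg Subtype.val h)), fun b => ⟨⟨e b, hB g b⟩, Subtype.ext ?_⟩⟩
    exact rtr_rtr g⁻¹ g (inv_mul_cancel g) _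
  have hmap : (Submonoid.powers (f : A)).map (e : A ≃* A).toMonoidHom = Submonoid.powers (rtr g (f : A)) := by
    rw [Submonoid.map_powers]
    rfl
  let eL := IsLocalization.ringEquivOfRingEquiv (Localization.Away (f : A)) (Localization.Away (rtr g (f : A))) e hmap
  have hcomp : (algebraMap A (Localization.Away (rtr g (f : A)))).comp (algebraMap (orb A x) A) =
      (eL.toRingHom.comp ((algebraMap A (Localization.Away (f : A))).comp (algebraMap (orb A x) A))).comp eB := by
    refine RingHom.ext fun b => ?_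
    show algebraMap A _ (b : A) = eL (algebraMap A _ (rtr g⁻¹ (b : A)))
    refine Eq.trans ?_ (IsLocalization.ringEquivOfRingEquiv_eq (S := Localization.Away (f : A))
      (Q := Localization.Away (rtr g (f : A))) hmap (rtr g⁻¹ (b : A))).symm
    show algebraMap A (Localization.Away (rtr g (f : A))) (b : A) =
      algebraMap A (Localization.Away (rtr g (f : A))) (rtr g (rtr g⁻¹ (b : A)))
    rw [rtr_rtr g g⁻¹ (mul_inv_cancel g)]
  show RingHom.Flat ((algebraMap A (Localization.Away (rtr g (f : A)))).comp (algebraMap (orb A x) A))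
  rw [hcomp]
  exact ((RingHom.Flat.of_bijective heB).comp (hflat.comp (.of_bijective eL.bijective)))

theorem faithfullyFlat_orb {x : R →ₐ[k] k} (hx : GLin.IsClosedOrbit k A x) :
    Module.FaithfullyFlat (orb A x) A := by
  haveI := flat_orb (A := A) x
  refine Module.FaithfullyFlat.of_comap_surjective fun q => ?_
  let ψ : R →+* orb A x := (GLin.orbitHom k A x).rangeRestrict.toRingHom
  have hψ : Function.Surjective ψ := AlgHom.rangeRestrict_surjective _
  have hinj := PrimeSpectrum.comap_injective_of_surjective ψ hψ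
  let η : PrimeSpectrum A := ⟨⊥, Ideal.isPrime_bot⟩
  have hspec : PrimeSpectrum.comap (GLin.orbitHom k A x).toRingHom η ⤳ PrimeSpectrum.comap ψ q := by
    rw [← PrimeSpectrum.le_iff_specializes]
    intro r hr
    have : GLin.orbitHom k A x r = 0 := hr
    show ψ r ∈ q.asIdeal
    rw [show ψ r = 0 from Subtype.ext this]
    exact zero_mem _
  obtain ⟨P, hP⟩ := hspec.mem_closed hx ⟨η, rfl⟩
  refine ⟨P, hinj ?_⟩
  rw [← hP]
  rfl

/-- A function trivial on the stabiliser descends to the orbit. -/
theorem mem_orb_of_grouplike {x : R →ₐ[k] k} (hx : GLin.IsClosedOrbit k A x) {χ : A}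
    (hχ : IsGroupLikeElem k χ) (hst : χ - 1 ∈ GLin.stabIdeal k A x) : χ ∈ orb A x := by
  haveI := faithfullyFlat_orb hx
  let g1 : WithConv (A →ₐ[k] A ⊗[orb A x] A) := toConv ((Algebra.TensorProduct.includeLeft :
    A →ₐ[orb A x] A ⊗[orb A x] A).restrictScalars k)
  let g2 : WithConv (A →ₐ[k] A ⊗[orb A x] A) := toConv ((Algebra.TensorProduct.includeRight :
    A →ₐ[orb A x] A ⊗[orb A x] A).restrictScalars k)
  let g2i : WithConv (A →ₐ[k] A ⊗[orb A x] A) := toConv (g2.ofConv.comp (HopfAlgebra.antipodeAlgHom k A))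
  have hg2r : g2 * g2i = 1 := by
    apply WithConv.ofConv_injective
    refine AlgHom.ext fun y => ?_
    rw [AlgHom.convMul_apply, AlgHom.convOne_apply]
    have e : ∀ z : A ⊗[k] A, Algebra.TensorProduct.lift g2.ofConv g2i.ofConv (fun _ _ => Commute.all _ _) z =
        g2.ofConv (LinearMap.mul' k A ((HopfAlgebra.antipode k (A := A)).lTensor A z)) := by
      intro z
      induction z with
      | zero => simp
      | tmul p q => simp [g2i]
      | add p q hp hq => simp only [map_add, hp, hq]
    rw [e, HopfAlgebra.mul_antipode_lTensor_comul_apply, AlgHom.commutes]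
  have hg2l : g2i * g2 = 1 := by
    apply WithConv.ofConv_injective
    refine AlgHom.ext fun y => ?_
    rw [AlgHom.convMul_apply, AlgHom.convOne_apply]
    have e : ∀ z : A ⊗[k] A, Algebra.TensorProduct.lift g2i.ofConv g2.ofConv (fun _ _ => Commute.all _ _) z =
        g2.ofConv (LinearMap.mul' k A ((HopfAlgebra.antipode k (A := A)).rTensor A z)) := by
      intro z
      induction z with
      | zero => simp
      | tmul p q => simp [g2i]
      | add p q hp hq => simp only [map_add, hp, hq]
    rw [e, HopfAlgebra.mul_antipode_rTensor_comul_apply, AlgHom.commutes]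
  have hB : g1.ofConv.comp (GLin.orbitHom k A x) = g2.ofConv.comp (GLin.orbitHom k A x) := by
    refine AlgHom.ext fun r => ?_
    exact Algebra.TensorProduct.tmul_one_eq_one_tmul (R := orb A x) (A := A) (B := A)
      (⟨GLin.orbitHom k A x r, r, rfl⟩ : orb A x)
  have hmv : ∀ (g h : WithConv (A →ₐ[k] A ⊗[orb A x] A)) (r : R), (g * h).ofConv (GLin.orbitHom k A x r) =
      Algebra.TensorProduct.lift (g.ofConv.comp (GLin.orbitHom k A x)) h.ofConv (fun _ _ => Commute.all _ _)
        (Comod.coact (k := k) (A := A) r) := by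
    intro g h r
    rw [AlgHom.convMul_apply]
    have e' : CoalgebraStruct.comul (R := k) (GLin.orbitHom k A x r) =
        (GLin.orbitHom k A x).toLinearMap.rTensor A (Comod.coact (k := k) (A := A) r) :=
      comodHom_apply (isComodHom_orbitHom (A := A) x) r
    rw [e']
    generalize Comod.coact (k := k) (A := A) r = z
    induction z with
    | zero => simp
    | tmul s a => simp
    | add p q hp hq => simp only [map_add, hp, hq]
  have hfix : ∀ r, (g1 * g2i).ofConv (GLin.orbitHom k A x r) = algebraMap k _ (x r) := by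
    intro r
    have h2 : (g2 * g2i).ofConv (GLin.orbitHom k A x r) = algebraMap k _ (x r) := by
      rw [hg2r, AlgHom.convOne_apply, counit_orbitHom]
    rw [← h2, hmv, hmv]
    congr 2
  have hker : GLin.stabIdeal k A x ≤ RingHom.ker (g1 * g2i).ofConv := by
    refine Ideal.map_le_iff_le_comap.2 fun r hr => ?_
    rw [Ideal.mem_comap, RingHom.mem_ker, hfix, show x r = 0 from hr, map_zero]
  have hχ1 : (g1 * g2i).ofConv χ = 1 := by
    rw [← sub_eq_zero, ← map_one (g1 * g2i).ofConv, ← map_sub]
    exact hker hst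
  have hmul : ∀ g h : WithConv (A →ₐ[k] A ⊗[orb A x] A), (g * h).ofConv χ = g.ofConv χ * h.ofConv χ := by
    intro g h
    rw [AlgHom.convMul_apply, hχ.comul_eq_tmul_self]
    simp
  have h12 : g1.ofConv χ = g2.ofConv χ := by
    have h1 : g1.ofConv χ * g2i.ofConv χ = 1 := (hmul g1 g2i).symm.trans hχ1
    have h2 : g2i.ofConv χ * g2.ofConv χ = 1 := by
      rw [← hmul, hg2l, AlgHom.convOne_apply, hχ.counit_eq_one, map_one]
    calc g1.ofConv χ = g1.ofConv χ * (g2i.ofConv χ * g2.ofConv χ) := by rw [h2, mul_one]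
      _ = g2.ofConv χ := by rw [← mul_assoc, h1, one_mul]
  have heff := Algebra.IsEffective.eqLocus_includeLeft_includeRight
    (Algebra.IsEffective.of_faithfullyFlat (R := orb A x) (S := A))
  obtain ⟨b, hb⟩ := (Set.ext_iff.1 heff χ).1 h12
  exact hb ▸ b.2

end Groth.Agent.OrbitFlatH28
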