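import Groth.Agent.Lib.OrbitFlatH28.Basic
import Groth.Agent.Lib.HopfMod.Ideal
import Mathlib.RingTheory.HopfAlgebra.GroupLike

/-!
# Semi-invariants from characters trivial on a stabiliser
-/

open TensorProduct HopfRep Groth.Agent.Comodule

universe u

namespace Groth.Agent.OrbitFlatH28

section twist

variable {k : Type u} [Field k] {A : Type u} [CommRing A] [HopfAlgebra k A]

/-- A comodule twisted by a group-like element. -/
@[reducible] noncomputable def twist (w : A) (hw : IsGroupLikeElem k w) (V : Type u) [AddCommGroup V]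
    [Module k V] [Comod k A V] : Comod k A V where
  coact := (LinearMap.mulRight k w).lTensor V ∘ₗ Comod.coact (k := k) (A := A)
  coassoc := by
    refine LinearMap.ext fun v => ?_
    have h := LinearMap.congr_fun (Comod.coassoc (k := k) (A := A) (V := V)) v
    simp only [LinearMap.comp_apply, LinearEquiv.coe_coe] at h ⊢
    let μ : A ⊗[k] A →ₗ[k] A ⊗[k] A := TensorProduct.map (LinearMap.mulRight k w) (LinearMap.mulRight k w)
    have e1 : ∀ z : V ⊗[k] A, TensorProduct.assoc k V A A
        (((LinearMap.mulRight k w).lTensor V ∘ₗ Comod.coact (k := k) (A := A)).rTensor A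
          ((LinearMap.mulRight k w).lTensor V z)) =
        μ.lTensor V (TensorProduct.assoc k V A A ((Comod.coact (k := k) (A := A)).rTensor A z)) := by
      intro z
      induction z with
      | zero => simp
      | tmul r a =>
        simp only [LinearMap.lTensor_tmul, LinearMap.rTensor_tmul, LinearMap.comp_apply, LinearMap.mulRight_apply]
        generalize Comod.coact (k := k) (A := A) r = q
        induction q with
        | zero => simp
        | tmul s b => simp [μ]
        | add p q hp hq => simp only [map_add, TensorProduct.add_tmul, hp, hq]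
      | add p q hp hq => simp only [map_add, hp, hq]
    have e2 : ∀ z : V ⊗[k] A, μ.lTensor V ((CoalgebraStruct.comul (R := k) (A := A)).lTensor V z) =
        (CoalgebraStruct.comul (R := k) (A := A)).lTensor V ((LinearMap.mulRight k w).lTensor V z) := by
      intro z
      induction z with
      | zero => simp
      | tmul r a =>
        simp only [LinearMap.lTensor_tmul, LinearMap.mulRight_apply, Bialgebra.comul_mul, hw.comul_eq_tmul_self]
        congr 1
        generalize CoalgebraStruct.comul (R := k) a = q
        induction q with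
        | zero => simp
        | tmul s b => simp [μ]
        | add p q hp hq => simp only [map_add, add_mul, hp, hq]
      | add p q hp hq => simp only [map_add, hp, hq]
    rw [e1, h, e2]
  counit_comp := by
    refine LinearMap.ext fun v => ?_
    have h := LinearMap.congr_fun (Comod.counit_comp (k := k) (A := A) (V := V)) v
    simp only [LinearMap.comp_apply] at h ⊢
    rw [← h]
    generalize Comod.coact (k := k) (A := A) v = z
    induction z with
    | zero => simp
    | tmul r a => simp [hw.counit_eq_one]
    | add p q hp hq => simp only [map_add, hp, hq]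

lemma twist_coact (w : A) (hw : IsGroupLikeElem k w) {V : Type u} [AddCommGroup V] [Module k V] [Comod k A V]
    (v : V) : (twist w hw V).coact v = (LinearMap.mulRight k w).lTensor V (Comod.coact (k := k) (A := A) v) := rfl

lemma isComodHom_twist (w : A) (hw : IsGroupLikeElem k w) {V W : Type u} [AddCommGroup V] [Module k V]
    [Comod k A V] [AddCommGroup W] [Module k W] [Comod k A W] {f : V →ₗ[k] W} (hf : Hoch.IsComodHom A f) :
    letI := twist w hw V
    letI := twist w hw W
    Hoch.IsComodHom A f := by
  refine LinearMap.ext fun v => ?_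
  show (twist w hw W).coact (f v) = f.rTensor A ((twist w hw V).coact v)
  rw [twist_coact, twist_coact, comodHom_apply hf]
  generalize Comod.coact (k := k) (A := A) v = z
  induction z with
  | zero => simp
  | tmul r a => simp
  | add p q hp hq => simp only [map_add, hp, hq]

/-- Semi-invariants lift along surjections. -/
theorem exists_eigen_preimage (hG : IsLinearlyReductive k A) {χ : A} (hχ : IsGroupLikeElem k χ)
    {V W : Type u} [AddCommGroup V] [Module k V] [Comod k A V] [AddCommGroup W] [Module k W] [Comod k A W]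
    {f : V →ₗ[k] W} (hf : Hoch.IsComodHom A f) {v : V} (hv : f v ∈ eigenspace k A W χ) :
    ∃ v' ∈ eigenspace k A V χ, f v' = f v := by
  let w := HopfAlgebra.antipode k χ
  have hw : IsGroupLikeElem k w := hχ.antipode
  have hfw : (twist w hw W).coact (f v) = f v ⊗ₜ[k] (1 : A) := by
    rw [twist_coact, show Comod.coact (k := k) (A := A) (f v) = f v ⊗ₜ[k] χ from hv]
    simp [w, hχ.mul_antipode_cancel]
  obtain ⟨EV, hEV⟩ := @exists_reynolds k _ A _ _ V _ _ (twist w hw V) hG
  obtain ⟨EW, hEW⟩ := @exists_reynolds k _ A _ _ W _ _ (twist w hw W) hG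
  have hcomp := @IsReynolds.comp_comm k _ A _ _ V _ _ (twist w hw V) W _ _ (twist w hw W) hG EV EW hEV hEW f
    (isComodHom_twist w hw hf)
  refine ⟨EV v, ?_, ?_⟩
  · show Comod.coact (k := k) (A := A) (EV v) = EV v ⊗ₜ[k] χ
    have h1 : (twist w hw V).coact (EV v) = EV v ⊗ₜ[k] (1 : A) := @IsReynolds.mem k _ A _ _ V _ _ (twist w hw V) EV hEV v
    rw [twist_coact] at h1
    have h2 := congrArg ((LinearMap.mulRight k χ).lTensor V) h1
    rw [← LinearMap.lTensor_comp_apply, show (LinearMap.mulRight k χ) ∘ₗ (LinearMap.mulRight k w) =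
      LinearMap.id from LinearMap.ext fun a => by simp [w, mul_assoc, hχ.antipode_mul_cancel],
      LinearMap.lTensor_id, LinearMap.id_apply] at h2
    rw [h2]
    simp
  · show f (EV v) = f v
    rw [← LinearMap.comp_apply, ← hcomp, LinearMap.comp_apply]
    exact (@IsReynolds.fix k _ A _ _ W _ _ (twist w hw W) EW hEW (f v)).2 hfw

end twist

variable {k : Type u} [Field k] [IsAlgClosed k] [CharZero k] {A : Type u} [CommRing A] [IsDomain A]
  [HopfAlgebra k A] [Algebra.FiniteType k A] {R : Type u} [CommRing R] [Algebra k R] [Algebra.FiniteType k R]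
  [Comod k A R] [GLin.IsCoactAlg k A R]

/-- An invariant, non-zero at `x`, in the ideal of a semi-invariant of weight `χ`. -/
theorem exists_invariant_of_trivial (hG : IsLinearlyReductive k A) {χ : A} (hχ : IsGroupLikeElem k χ)
    {x : R →ₐ[k] k} (hx : GLin.IsClosedOrbit k A x) (hst : χ - 1 ∈ GLin.stabIdeal k A x) :
    ∃ h ∈ eigenspace k A R χ, ∃ f ∈ GLin.invariants k A R, f ∈ Ideal.span {h} ∧ x f = 1 := by
  obtain ⟨v, hv⟩ := mem_orb_of_grouplike hx hχ hst
  have hv' : (GLin.orbitHom k A x).toLinearMap v ∈ eigenspace k A A χ := by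
    show CoalgebraStruct.comul (R := k) (GLin.orbitHom k A x v) = GLin.orbitHom k A x v ⊗ₜ[k] χ
    rw [show GLin.orbitHom k A x v = χ from hv, hχ.comul_eq_tmul_self]
  obtain ⟨h, hh, hhv⟩ := exists_eigen_preimage hG hχ (isComodHom_orbitHom (A := A) x) hv'
  have hhχ : GLin.orbitHom k A x h = χ := hhv.trans hv
  let I := RingHom.ker (GLin.orbitHom k A x)
  have htop : I ⊔ Ideal.span {h} = ⊤ := by
    by_contra hne
    obtain ⟨M, hM, hle⟩ := Ideal.exists_le_maximal _ hne
    let η : PrimeSpectrum A := ⟨⊥, Ideal.isPrime_bot⟩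
    have hspec : PrimeSpectrum.comap (GLin.orbitHom k A x).toRingHom η ⤳ ⟨M, hM.isPrime⟩ := by
      rw [← PrimeSpectrum.le_iff_specializes]
      intro r hr
      exact hle (Ideal.mem_sup_left (show GLin.orbitHom k A x r = 0 from hr))
    obtain ⟨P, hP⟩ := hspec.mem_closed hx ⟨η, rfl⟩
    have hmem : h ∈ (PrimeSpectrum.comap (GLin.orbitHom k A x).toRingHom P).asIdeal := by
      rw [hP]
      exact hle (Ideal.mem_sup_right (Ideal.mem_span_singleton_self h))
    have hχP : χ ∈ P.asIdeal := hhχ ▸ hmem
    exact P.2.ne_top (Ideal.eq_top_of_isUnit_mem _ hχP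
      (IsUnit.of_mul_eq_one _ hχ.mul_antipode_cancel))
  obtain ⟨i, hi, q, hq, hiq⟩ := Submodule.mem_sup.1 (htop ▸ Submodule.mem_top : (1 : R) ∈ I ⊔ Ideal.span {h})
  obtain ⟨E, hE⟩ := exists_reynolds (V := R) (A := A) hG
  have hsub : IsSubcomod (k := k) (A := A) ((Ideal.span {h}).restrictScalars k) := by
    intro y hy
    obtain ⟨r, rfl⟩ := Ideal.mem_span_singleton'.1 hy
    show Comod.coact (k := k) (A := A) (r * h) ∈ tens A _
    rw [GLin.IsCoactAlg.coact_mul]
    exact Groth.Agent.HopfMod.mul_mem_tens _ (by
      rw [show Comod.coact (k := k) (A := A) h = h ⊗ₜ[k] χ from hh]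
      exact tmul_mem_tens (Ideal.mem_span_singleton_self h) _)
  refine ⟨h, hh, E q, hE.mem q, hE.apply_mem hG hsub hq, ?_⟩
  have hEi : E i ∈ I := hE.apply_mem hG (isSubcomod_ker_orbitHom (A := A) x) hi
  have h1 : E i + E q = 1 := by
    rw [← map_add, hiq, (hE.fix 1).2 Groth.Agent.HopfMod.one_mem_fixedPts]
  have hx0 : x (E i) = 0 := by
    rw [← counit_orbitHom (A := A) x, show GLin.orbitHom k A x (E i) = 0 from hEi, map_zero]
  have := congrArg x h1
  rwa [map_add, hx0, zero_add, map_one] at this

end Groth.Agent.OrbitFlatH28
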